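import Mathlib

/-! Arcs on smooth algebras and their rational approximation. -/

set_option autoImplicit false
universe u

open Polynomial LaurentSeries
open scoped RatFunc LaurentSeries
set_option maxHeartbeats 400000
set_option synthInstance.maxHeartbeats 80000
open scoped TensorProduct

noncomputable section

namespace RArcLib

variable {k K : Type u} [Field k] [Field K] [Algebra k K]

theorem exists_mul_eq_algebraMap {A B : Type u} [CommRing A] [IsDomain A] [CommRing B] [IsDomain B]
    [Algebra A B] [Algebra.Etale A B] (e : B) (he : e ≠ 0) :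
    ∃ (h : A) (b : B), h ≠ 0 ∧ e * b = algebraMap A B h := by
  have hinj : Function.Injective (algebraMap A B) := by
    refine (injective_iff_map_eq_zero _).2 fun a ha => ?_
    by_contra hne
    have hr : IsSMulRegular B (algebraMap A B a) :=
      IsSMulRegular.of_flat (IsSMulRegular.of_ne_zero hne)
    exact one_ne_zero (α := B) (hr (by simp [ha]))
  let Q := FractionRing A
  let C := Q ⊗[A] B
  let M := Algebra.algebraMapSubmonoid B (nonZeroDivisors A)
  have hM : M ≤ nonZeroDivisors B := by
    rintro _ ⟨a, ha, rfl⟩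
    exact mem_nonZeroDivisors_of_ne_zero ((map_ne_zero_iff _ hinj).2 (nonZeroDivisors.ne_zero ha))
  have hfin : Module.Finite Q C := Algebra.FormallyUnramified.finite_of_free Q C
  let _ := Algebra.TensorProduct.rightAlgebra (R := A) (A := Q) (B := B)
  haveI : IsLocalization M C := IsLocalization.tensorRight (S := B) Q (nonZeroDivisors A)
  haveI : IsDomain C := IsLocalization.isDomain_of_le_nonZeroDivisors C hM
  let e' : C := (1 : Q) ⊗ₜ[A] e
  have he' : e' ≠ 0 := fun h => he (IsLocalization.injective C hM (by rw [map_zero]; exact h))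
  have hs : Function.Surjective (LinearMap.mulLeft Q e') :=
    LinearMap.surjective_of_injective (mul_right_injective₀ he')
  obtain ⟨z, hz⟩ := hs 1
  obtain ⟨b, m, hm⟩ := IsLocalization.exists_mk'_eq M z
  obtain ⟨a, ha, hab⟩ := m.2
  refine ⟨a, b, nonZeroDivisors.ne_zero ha, IsLocalization.injective C hM ?_⟩
  rw [hab, map_mul, ← IsLocalization.mk'_spec C b m, hm, ← mul_assoc]
  exact (congrArg (· * _) hz).trans (one_mul _)

theorem exists_arc [Infinite K] {d : ℕ} {B : Type u} [CommRing B] [IsDomain B] [Algebra k B]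
    [Algebra (MvPolynomial (Fin d) k) B] [IsScalarTower k (MvPolynomial (Fin d) k) B]
    [Algebra.Etale (MvPolynomial (Fin d) k) B] (x : B →ₐ[k] K) (e : B) (he : e ≠ 0) :
    ∃ ψ : B →ₐ[k] PowerSeries K, (∀ b, PowerSeries.constantCoeff (ψ b) = x b) ∧ ψ e ≠ 0 := by
  let A := MvPolynomial (Fin d) k
  obtain ⟨h, b, hh, hb⟩ := exists_mul_eq_algebraMap (A := A) e he
  let c : Fin d → K := fun i => x (algebraMap A B (MvPolynomial.X i))
  obtain ⟨v, hv⟩ : ∃ v : Fin d → K, MvPolynomial.aeval (c + v) h ≠ (0 : K) := by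
    by_contra hc
    push Not at hc
    have h0 : MvPolynomial.map (algebraMap k K) h = 0 := MvPolynomial.funext fun w => by
      have := hc (w - c)
      rw [add_sub_cancel] at this
      rw [map_zero, MvPolynomial.eval_map, ← MvPolynomial.aeval_def]
      exact this
    exact hh (MvPolynomial.map_injective _ (algebraMap k K).injective (by rw [h0, map_zero]))
  let a : A →ₐ[k] K[X] := MvPolynomial.aeval fun i => Polynomial.C (c i) + Polynomial.X * Polynomial.C (v i)
  let ρ : A →ₐ[k] PowerSeries K :=
    MvPolynomial.aeval fun i => PowerSeries.C (c i) + PowerSeries.X * PowerSeries.C (v i)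
  letI : Algebra A (PowerSeries K) := ρ.toRingHom.toAlgebra
  haveI : IsScalarTower k A (PowerSeries K) := IsScalarTower.of_algebraMap_eq fun r => (ρ.commutes r).symm
  let I : Ideal (PowerSeries K) := Ideal.span {PowerSeries.X}
  have hX : Ideal.Quotient.mk I PowerSeries.X = 0 :=
    Ideal.Quotient.eq_zero_iff_mem.2 (Ideal.mem_span_singleton_self _)
  have hk : ∀ r : k, algebraMap k (PowerSeries K) r = PowerSeries.C (algebraMap k K r) := fun r => by
    rw [IsScalarTower.algebraMap_apply k K (PowerSeries K)]; rfl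
  let f : B →ₐ[A] PowerSeries K ⧸ I :=
    { ((Ideal.Quotient.mk I).comp PowerSeries.C).comp x.toRingHom with
      commutes' := fun p => by
        show Ideal.Quotient.mk I (PowerSeries.C (x (algebraMap A B p))) = Ideal.Quotient.mk I (ρ p)
        have : ((Ideal.Quotient.mk I).comp PowerSeries.C).comp (x.toRingHom.comp (algebraMap A B)) =
            (Ideal.Quotient.mk I).comp ρ.toRingHom := by
          refine MvPolynomial.ringHom_ext (fun r => ?_) fun i => ?_
          · have h' : x (algebraMap A B (MvPolynomial.C r)) = algebraMap k K r := by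
              rw [← MvPolynomial.algebraMap_eq, ← IsScalarTower.algebraMap_apply, AlgHom.commutes]
            simp [A, ρ, hk, h']
          · simp [ρ, c, A, hX]
        exact RingHom.congr_fun this p }
  obtain ⟨g, hg⟩ := Algebra.FormallySmooth.exists_mkₐ_comp_eq_of_isAdicComplete (I := I) f
  refine ⟨g.restrictScalars k, fun y => ?_, fun h0 => hv ?_⟩
  · have hy : Ideal.Quotient.mk I (g y) = Ideal.Quotient.mk I (PowerSeries.C (x y)) := AlgHom.congr_fun hg y
    rw [Ideal.Quotient.mk_eq_mk_iff_sub_mem, Ideal.mem_span_singleton, PowerSeries.X_dvd_iff, map_sub,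
      PowerSeries.constantCoeff_C, sub_eq_zero] at hy
    exact hy
  · have h1 : ρ h = 0 := by
      rw [show ρ h = algebraMap A (PowerSeries K) h from rfl, ← g.commutes, ← hb, map_mul]
      rw [show g e = 0 from h0, zero_mul]
    have h2 : ρ h = ((a h : K[X]) : PowerSeries K) := by
      have : ρ.toRingHom = (Polynomial.coeToPowerSeries.ringHom (R := K)).comp a.toRingHom := by
        refine MvPolynomial.ringHom_ext (fun r => ?_) fun i => ?_
        · simp [ρ, a, A, hk, Polynomial.algebraMap_eq]
        · simp [ρ, a, A]; ring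
      exact RingHom.congr_fun this h
    have h3 : a h = 0 := Polynomial.coe_injective _ (by rw [← h2, h1, Polynomial.coe_zero])
    have h4 : ((Polynomial.aeval (1 : K)).restrictScalars k).comp a = MvPolynomial.aeval (c + v) :=
      MvPolynomial.algHom_ext fun i => by simp [a]
    rw [← h4]
    simp [h3]

theorem num_denom_of_coe_eq {r : RatFunc K} {F : PowerSeries K} (h : (r : K⸨X⸩) = F) :
    r.denom.eval 0 ≠ 0 ∧ r.num.eval 0 = r.denom.eval 0 * PowerSeries.constantCoeff F := by
  have h1 : (r.num : PowerSeries K) = (r.denom : PowerSeries K) * F := by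
    refine HahnSeries.ofPowerSeries_injective (Γ := ℤ) ?_
    rw [map_mul]
    have h2 : algebraMap K[X] (RatFunc K) r.num = algebraMap K[X] (RatFunc K) r.denom * r := by
      conv_rhs => arg 2; rw [← RatFunc.num_div_denom r]
      rw [mul_div_cancel₀ _ (RatFunc.algebraMap_ne_zero r.denom_ne_zero)]
    have h3 := congrArg (algebraMap (RatFunc K) K⸨X⸩) h2
    rw [map_mul, ← IsScalarTower.algebraMap_apply, ← IsScalarTower.algebraMap_apply] at h3
    have hP : ∀ P : K[X], algebraMap K[X] K⸨X⸩ P = ((P : PowerSeries K) : K⸨X⸩) := fun P => by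
      rw [RatFunc.coe_coe]; exact IsScalarTower.algebraMap_apply K[X] (RatFunc K) K⸨X⸩ P
    rw [← h, ← hP, ← hP]
    exact h3
  have h4 := congrArg PowerSeries.constantCoeff h1
  rw [map_mul, Polynomial.constantCoeff_coe, Polynomial.constantCoeff_coe,
    Polynomial.coeff_zero_eq_eval_zero, Polynomial.coeff_zero_eq_eval_zero] at h4
  refine ⟨fun hd => ?_, h4⟩
  rw [hd, zero_mul] at h4
  obtain ⟨a, b, hab⟩ := r.isCoprime_num_denom
  simpa [hd, h4] using congrArg (Polynomial.eval (0 : K)) hab

/-- A polynomial arc rational approximation of an arc through a rational map. -/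
theorem exists_approx {B : Type u} [CommRing B] [Algebra k B] [Algebra.FiniteType k B] {n : ℕ}
    (g : MvPolynomial (Fin n) k) (β : B →ₐ[k] Localization.Away g)
    (α : MvPolynomial (Fin n) k →ₐ[k] K⸨X⸩) (hg : α g ≠ 0)
    (ψ : B →ₐ[k] PowerSeries K) (x : B →ₐ[k] K) (hψ : ∀ b, PowerSeries.constantCoeff (ψ b) = x b)
    (hcomp : ∀ b, IsLocalization.Away.lift (S := Localization.Away g) g (isUnit_iff_ne_zero.2 hg) (β b) =
      ((ψ b : PowerSeries K) : K⸨X⸩))
    (e : B) (he : ψ e ≠ 0) [Infinite K] :
    ∃ (D : K[X]) (φ : B →ₐ[k] Localization.Away D) (t : K) (h₀ : D.eval 0 ≠ 0) (h₁ : D.eval t ≠ 0),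
      (∀ b, IsLocalization.Away.lift (S := Localization.Away D) (g := Polynomial.evalRingHom (0 : K)) D
        (isUnit_iff_ne_zero.2 h₀) (φ b) = x b) ∧
      IsLocalization.Away.lift (S := Localization.Away D) (g := Polynomial.evalRingHom t) D
        (isUnit_iff_ne_zero.2 h₁) (φ e) ≠ 0 := by
  classical
  haveI : IsTopologicalRing K⸨X⸩ := Valued.isTopologicalDivisionRing.toIsTopologicalRing
  haveI : T0Space K⸨X⸩ := Valued.completable.toT0Space
  haveI : ContinuousInv₀ K⸨X⸩ := Valued.isTopologicalDivisionRing.toContinuousInv₀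
  haveI : T2Space K⸨X⸩ := inferInstance
  obtain ⟨s, hs⟩ := Algebra.FiniteType.out (R := k) (A := B)
  let T := insert e s
  have hfrac : ∀ b : B, ∃ (G : MvPolynomial (Fin n) k) (q : ℕ),
      β b * algebraMap _ (Localization.Away g) (g ^ q) = algebraMap _ (Localization.Away g) G := by
    intro b
    obtain ⟨q, G, hG⟩ := IsLocalization.Away.surj g (β b)
    exact ⟨G, q, by rw [map_pow]; exact hG⟩
  choose G q hGq using fun b => (IsLocalization.Away.surj g (β b)) |> fun h => hfrac b
  let α₀ : Fin n → K⸨X⸩ := fun i => α (MvPolynomial.X i)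
  have hα : α = MvPolynomial.aeval α₀ := MvPolynomial.algHom_ext fun i => by simp [α₀]
  let X₁ : K⸨X⸩ := ((PowerSeries.X : PowerSeries K) : K⸨X⸩)
  let S : Set (Fin n → K⸨X⸩) := {p | MvPolynomial.aeval p g ≠ 0} ∩ {p | MvPolynomial.aeval p (G e) ≠ 0} ∩
    ⋂ b ∈ T, {p | MvPolynomial.aeval p g ≠ 0 ∧
      X₁⁻¹ * (MvPolynomial.aeval p (G b) / MvPolynomial.aeval p g ^ q b - ((ψ b : PowerSeries K) : K⸨X⸩)) ∈
        {z : K⸨X⸩ | Valued.v z ≤ 1}}
  have hval : ∀ b, MvPolynomial.aeval α₀ (G b) = ((ψ b : PowerSeries K) : K⸨X⸩) * α g ^ q b := by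
    intro b
    have h := congrArg (IsLocalization.Away.lift (S := Localization.Away g) g (isUnit_iff_ne_zero.2 hg)) (hGq b)
    rw [map_mul, IsLocalization.Away.lift_eq, IsLocalization.Away.lift_eq, hcomp, map_pow] at h
    rw [← hα]; exact h.symm
  have hcont : ∀ P : MvPolynomial (Fin n) k, Continuous fun p : Fin n → K⸨X⸩ => MvPolynomial.aeval p P := fun P => by
    simp_rw [MvPolynomial.aeval_def, ← MvPolynomial.eval_map]
    exact MvPolynomial.continuous_eval _
  have hne : IsOpen {p : Fin n → K⸨X⸩ | MvPolynomial.aeval p g ≠ 0} := isOpen_ne_fun (hcont g) continuous_const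
  have hS : IsOpen S := by
    refine (hne.inter (isOpen_ne_fun (hcont (G e)) continuous_const)).inter
      (isOpen_biInter_finset fun b _ => ?_)
    refine ContinuousOn.isOpen_inter_preimage ?_ hne (Valued.isOpen_integer K⸨X⸩)
    exact continuousOn_const.mul (((hcont (G b)).continuousOn.div ((hcont g).pow _).continuousOn
      fun p hp => pow_ne_zero _ hp).sub continuousOn_const)
  have hmem : α₀ ∈ S := by
    refine ⟨⟨by rw [Set.mem_setOf_eq, ← hα]; exact hg, ?_⟩, Set.mem_iInter₂.2 fun b _ => ?_⟩
    · rw [Set.mem_setOf_eq, hval]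
      exact mul_ne_zero (fun h => he (HahnSeries.ofPowerSeries_injective (by rw [h, map_zero]))) (pow_ne_zero _ hg)
    · refine ⟨by rw [← hα]; exact hg, ?_⟩
      rw [Set.mem_setOf_eq, hval, ← hα, mul_div_cancel_right₀ _ (pow_ne_zero _ hg), sub_self, mul_zero, map_zero]
      exact zero_le
  obtain ⟨p, hpS⟩ := (DenseRange.piMap fun _ : Fin n => LaurentSeries.coe_range_dense (K := K)).exists_mem_open
    hS ⟨α₀, hmem⟩
  obtain ⟨⟨hpg, hpe⟩, hpT⟩ := hpS
  let ev : MvPolynomial (Fin n) k →ₐ[k] RatFunc K := MvPolynomial.aeval p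
  let emb : RatFunc K →+* K⸨X⸩ := algebraMap (RatFunc K) K⸨X⸩
  have hev : ∀ P, emb (ev P) = MvPolynomial.aeval (fun i => emb (p i)) P := by
    intro P
    have : emb.comp ev.toRingHom = (MvPolynomial.aeval fun i => emb (p i)).toRingHom :=
      MvPolynomial.ringHom_ext (fun r => by
        show emb (ev (MvPolynomial.C r)) = MvPolynomial.aeval _ (MvPolynomial.C r)
        rw [MvPolynomial.aeval_C, MvPolynomial.aeval_C]
        show algebraMap (RatFunc K) K⸨X⸩ _ = _
        rw [IsScalarTower.algebraMap_apply k K[X] (RatFunc K),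
          ← IsScalarTower.algebraMap_apply K[X] (RatFunc K) K⸨X⸩]
        simp only [HahnSeries.algebraMap_apply', Polynomial.algebraMap_apply, PowerSeries.algebraMap_apply']
        congr 1
        simp [IsScalarTower.algebraMap_apply k K (PowerSeries K)]) fun i => by simp [ev, emb]
    exact RingHom.congr_fun this P
  have hpg' : IsUnit (ev g) := isUnit_iff_ne_zero.2 fun h => hpg (by
    show MvPolynomial.aeval (fun i => emb (p i)) g = 0
    rw [← hev, h, map_zero])
  let L : Localization.Away g →+* RatFunc K := IsLocalization.Away.lift g (g := ev.toRingHom) hpg'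
  let γ : B →ₐ[k] RatFunc K :=
    { L.comp β.toRingHom with
      commutes' := fun r => by
        show L (β (algebraMap k B r)) = _
        rw [AlgHom.commutes, IsScalarTower.algebraMap_apply k (MvPolynomial (Fin n) k) (Localization.Away g),
          IsLocalization.Away.lift_eq]
        exact ev.commutes r }
  have hγ : ∀ b, emb (γ b) = MvPolynomial.aeval (fun i => emb (p i)) (G b) /
      MvPolynomial.aeval (fun i => emb (p i)) g ^ q b := by
    intro b
    have h := congrArg L (hGq b)
    simp only [map_mul, L, IsLocalization.Away.lift_eq] at h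
    have hpg₂ : MvPolynomial.aeval (fun i => emb (p i)) g ≠ 0 := hpg
    rw [eq_div_iff (pow_ne_zero _ hpg₂), ← map_pow, ← hev, ← hev, ← map_mul]
    exact congrArg emb h
  have hser : ∀ b ∈ T, (γ b).denom.eval 0 ≠ 0 ∧ (γ b).num.eval 0 = (γ b).denom.eval 0 * x b := by
    intro b hb
    obtain ⟨-, h⟩ := Set.mem_iInter₂.1 hpT b hb
    obtain ⟨F, hF⟩ := (LaurentSeries.val_le_one_iff_eq_coe K _).1 h
    have hX₁ : X₁ ≠ 0 := fun h0 =>
      PowerSeries.X_ne_zero (HahnSeries.ofPowerSeries_injective (Γ := ℤ) (h0.trans (map_zero _).symm))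
    have h' : emb (γ b) = ((ψ b + PowerSeries.X * F : PowerSeries K) : K⸨X⸩) := by
      rw [map_add, map_mul, hF]
      show _ = _ + X₁ * _
      rw [mul_inv_cancel_left₀ hX₁, hγ]
      exact (add_sub_cancel _ _).symm
    have := num_denom_of_coe_eq h'
    simpa [hψ] using this
  have hγe : γ e ≠ 0 := fun h => hpe (by
    have h' := hγ e
    rw [h, map_zero, eq_comm, div_eq_zero_iff] at h'
    exact h'.resolve_right (pow_ne_zero _ hpg))
  let D : K[X] := ∏ b ∈ T, (γ b).denom
  have hD0 : D.eval 0 ≠ 0 := by
    rw [Polynomial.eval_prod]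
    exact Finset.prod_ne_zero_iff.2 fun b hb => (hser b hb).1
  have hDne : D ≠ 0 := fun h => hD0 (by rw [h, Polynomial.eval_zero])
  have hmain : D * (γ e).num ≠ 0 := mul_ne_zero hDne (fun h => hγe (RatFunc.num_eq_zero_iff.1 h))
  obtain ⟨t, ht⟩ : ∃ t : K, (D * (γ e).num).eval t ≠ 0 := by
    by_contra h
    push Not at h
    exact hmain (Polynomial.funext fun r => by rw [h, Polynomial.eval_zero])
  rw [Polynomial.eval_mul] at ht
  let ι : Localization.Away D →+* RatFunc K := IsLocalization.Away.lift D (g := algebraMap K[X] (RatFunc K))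
    (isUnit_iff_ne_zero.2 (RatFunc.algebraMap_ne_zero hDne))
  let ιₐ : Localization.Away D →ₐ[k] RatFunc K :=
    { ι with
      commutes' := fun r => by
        show ι _ = _
        rw [IsScalarTower.algebraMap_apply k K[X] (Localization.Away D), IsLocalization.Away.lift_eq,
          ← IsScalarTower.algebraMap_apply] }
  have hinj : Function.Injective ιₐ := by
    show Function.Injective ι
    exact (IsLocalization.lift_injective_iff (M := Submonoid.powers D) _).2 fun a b => by
      rw [(IsLocalization.injective (Localization.Away D) (powers_le_nonZeroDivisors_of_noZeroDivisors hDne)).eq_iff,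
        (IsFractionRing.injective K[X] (RatFunc K)).eq_iff]
  have hrange : ∀ b, γ b ∈ ιₐ.range := by
    intro b
    have hgen : b ∈ Algebra.adjoin k (s : Set B) := by rw [hs]; trivial
    refine (Algebra.adjoin_le (S := ιₐ.range.comap γ) fun c hc => ?_) hgen
    have hdvd : (γ c).denom ∣ D := Finset.dvd_prod_of_mem _ (Finset.mem_insert_of_mem hc)
    obtain ⟨w, hw⟩ := hdvd
    refine ⟨IsLocalization.mk' _ ((γ c).num * w) ⟨D, Submonoid.mem_powers D⟩, ?_⟩
    show ι _ = γ c
    show IsLocalization.lift _ _ = _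
    rw [IsLocalization.lift_mk'_spec]
    show algebraMap K[X] (RatFunc K) ((γ c).num * w) = algebraMap K[X] (RatFunc K) D * γ c
    conv_rhs => arg 2; rw [← RatFunc.num_div_denom (γ c)]
    rw [hw, map_mul, map_mul]
    field_simp [RatFunc.algebraMap_ne_zero (γ c).denom_ne_zero]
  let φ : B →ₐ[k] Localization.Away D :=
    (AlgEquiv.ofInjective ιₐ hinj).symm.toAlgHom.comp (γ.codRestrict ιₐ.range hrange)
  have hφ : ∀ b, ι (φ b) = γ b := fun b =>
    congrArg Subtype.val ((AlgEquiv.ofInjective ιₐ hinj).apply_symm_apply (γ.codRestrict ιₐ.range hrange b))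
  have hev' : ∀ b (a : K) (ha : D.eval a ≠ 0), IsLocalization.Away.lift (S := Localization.Away D)
      (g := Polynomial.evalRingHom a) D (isUnit_iff_ne_zero.2 ha) (φ b) * (γ b).denom.eval a = (γ b).num.eval a := by
    intro b a ha
    have h : φ b * algebraMap _ _ (γ b).denom = algebraMap K[X] (Localization.Away D) (γ b).num := by
      refine hinj ?_
      show ι _ = ι _
      rw [map_mul, hφ, IsLocalization.Away.lift_eq, IsLocalization.Away.lift_eq]
      conv_lhs => arg 1; rw [← RatFunc.num_div_denom (γ b)]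
      rw [div_mul_cancel₀ _ (RatFunc.algebraMap_ne_zero (γ b).denom_ne_zero)]
    have := congrArg (IsLocalization.Away.lift (S := Localization.Away D) (g := Polynomial.evalRingHom a) D
      (isUnit_iff_ne_zero.2 ha)) h
    simpa using this
  let ev0 : Localization.Away D →ₐ[k] K :=
    { IsLocalization.Away.lift (S := Localization.Away D) (g := Polynomial.evalRingHom (0 : K)) D
        (isUnit_iff_ne_zero.2 hD0) with
      commutes' := fun r => by
        show IsLocalization.Away.lift (S := Localization.Away D) D _ _ = _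
        rw [IsScalarTower.algebraMap_apply k K[X] (Localization.Away D), IsLocalization.Away.lift_eq]
        simp }
  refine ⟨D, φ, t, hD0, left_ne_zero_of_mul ht, fun b => ?_, fun h => ?_⟩
  · refine AlgHom.congr_fun (φ₁ := ev0.comp φ) (φ₂ := x) (AlgHom.ext_of_adjoin_eq_top hs fun c hc => ?_) b
    obtain ⟨h1, h2⟩ := hser c (Finset.mem_insert_of_mem hc)
    refine mul_right_cancel₀ h1 ?_
    exact (hev' c 0 hD0).trans (h2.trans (mul_comm _ _))
  · exact right_ne_zero_of_mul ht (by rw [← hev' e t (left_ne_zero_of_mul ht), h, zero_mul])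

end RArcLib
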