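import Groth.Agent.RArcLib.Algebra
import Groth.Agent.RFormLib.P1
import Groth.Agent.REqLineLib.Basic
import Groth.Prelude.Def_W4c5nonratstablectREq

/-! A rational point of a smooth retract rational variety is linked to a point of the retract open. -/

set_option autoImplicit false
set_option backward.isDefEq.respectTransparency false
set_option maxHeartbeats 800000
universe u

open CategoryTheory CategoryTheory.Limits AlgebraicGeometry TopologicalSpace REq Polynomial
open scoped LaurentSeries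

noncomputable section

namespace RArcLib

theorem infinite_of_charZero (k K : Type u) [Field k] [CharZero k] [Field K] [Algebra k K] : Infinite K :=
  Infinite.of_injective (algebraMap k K) (algebraMap k K).injective

variable {k : Type u} [Field k] {X : Scheme.{u}} (f : X ⟶ Spec (CommRingCat.of k))

theorem exists_link_into [IsIntegral X] [Smooth f] (K : Type u) [Field K] [Algebra k K] [Infinite K]
    (U : X.Opens) {n : ℕ} (V : (Spec (CommRingCat.of (MvPolynomial (Fin n) k))).Opens)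
    (a : (U : Scheme.{u}) ⟶ (V : Scheme.{u})) (b : (V : Scheme.{u}) ⟶ (U : Scheme.{u}))
    (hne : (U : Set X).Nonempty) (hab : a ≫ b = 𝟙 (U : Scheme.{u}))
    (ha : a ≫ V.ι ≫ Spec.map (CommRingCat.ofHom (algebraMap k (MvPolynomial (Fin n) k))) = U.ι ≫ f)
    (hb : b ≫ U.ι ≫ f = V.ι ≫ Spec.map (CommRingCat.ofHom (algebraMap k (MvPolynomial (Fin n) k))))
    (A : Pts f K) : ∃ B : Pts f K, InOpen f U B ∧ ElemLink f K A B := by
  let P := MvPolynomial (Fin n) k
  let z₀ := A.1 (IsLocalRing.closedPoint K)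
  obtain ⟨S₀, hS₀, W, hW, hzW, hle, hstd⟩ := Smooth.exists_isStandardSmooth f z₀
  have hS : S₀ = ⊤ := top_le_iff.1 fun y _ => by
    haveI : Subsingleton ↥(Spec (CommRingCat.of k)) := inferInstanceAs (Subsingleton (PrimeSpectrum k))
    rw [show y = f z₀ from Subsingleton.elim _ _]
    exact hle hzW
  subst hS
  haveI : Nonempty W := ⟨⟨_, hzW⟩⟩
  let ρ : k →+* Γ(X, W) := ((Scheme.ΓSpecIso (CommRingCat.of k)).inv ≫ f.appLE ⊤ W hle).hom
  letI := ρ.toAlgebra
  have hstd' : ρ.IsStandardSmooth :=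
    RingHom.isStandardSmooth_respectsIso.2 _ (Scheme.ΓSpecIso (CommRingCat.of k)).commRingCatIsoToRingEquiv.symm hstd
  obtain ⟨d, g, hgC, hget⟩ := hstd'.exists_etale_mvPolynomial
  letI := g.toAlgebra
  haveI : IsScalarTower k (MvPolynomial (Fin d) k) Γ(X, W) :=
    IsScalarTower.of_algebraMap_eq fun r => (RingHom.congr_fun hgC r).symm
  haveI : Algebra.Etale (MvPolynomial (Fin d) k) Γ(X, W) := hget
  haveI : Algebra.FiniteType k Γ(X, W) := Algebra.FiniteType.trans (S := MvPolynomial (Fin d) k) inferInstance inferInstance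
  have hfs : hW.fromSpec ≫ f = Spec.map (CommRingCat.ofHom ρ) := by
    rw [← IsAffineOpen.SpecMap_appLE_fromSpec f (isAffineOpen_top _) hW hle, IsAffineOpen.fromSpec_top,
      Scheme.isoSpec_Spec_inv]
    simp [ρ, ← Spec.map_comp]
  have hfac : ∀ {R : Type u} [CommRing R] [Algebra k R] (s : Spec (CommRingCat.of R) ⟶ X),
      s ≫ f = Spec.map (CommRingCat.ofHom (algebraMap k R)) → Set.range s ⊆ (W : Set X) →
      ∃ φ : Γ(X, W) →ₐ[k] R, Spec.map (CommRingCat.ofHom φ.toRingHom) ≫ hW.fromSpec = s := by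
    intro R _ _ s hs hr
    have hr' : Set.range s ⊆ Set.range hW.fromSpec := by rw [hW.range_fromSpec]; exact hr
    obtain ⟨φ, hφ⟩ := Spec.map_surjective (IsOpenImmersion.lift hW.fromSpec s hr')
    have hs' : Spec.map φ ≫ hW.fromSpec = s := by rw [hφ, IsOpenImmersion.lift_fac]
    have hc : φ.hom.comp ρ = algebraMap k R := by
      have h : Spec.map (CommRingCat.ofHom ρ ≫ φ) = Spec.map (CommRingCat.ofHom (algebraMap k R)) := by
        rw [Spec.map_comp, ← hfs, ← Category.assoc, hs', hs]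
      exact congrArg CommRingCat.Hom.hom (Spec.map_injective h)
    exact ⟨{ φ.hom with commutes' := RingHom.congr_fun hc }, hs'⟩
  obtain ⟨x, hx⟩ := hfac A.1 A.2 (by
    rintro _ ⟨y, rfl⟩
    haveI : Subsingleton ↥(Spec (CommRingCat.of K)) := inferInstanceAs (Subsingleton (PrimeSpectrum K))
    rw [Subsingleton.elim y (IsLocalRing.closedPoint K)]
    exact hzW)
  have hηU : genericPoint X ∈ U := (genericPoint_spec X).mem_open_set_iff U.2 |>.2 (by simpa using hne)
  have hηW : genericPoint X ∈ W := (genericPoint_spec X).mem_open_set_iff W.2 |>.2 ⟨_, Set.mem_univ _, hzW⟩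
  obtain ⟨e, heU, heη⟩ := hW.exists_basicOpen_le ⟨_, hηU⟩ hηW
  have he : e ≠ 0 := fun h => by
    rw [h, Scheme.basicOpen_zero] at heη
    exact heη
  obtain ⟨ψ, hψ, hψe⟩ := exists_arc (d := d) x e he
  let ψL : Γ(X, W) →ₐ[k] K⸨X⸩ :=
    { (HahnSeries.ofPowerSeries ℤ K).comp ψ.toRingHom with
      commutes' := fun r => by
        show HahnSeries.ofPowerSeries ℤ K (ψ (algebraMap k _ r)) = _
        rw [AlgHom.commutes, HahnSeries.algebraMap_apply'] }
  let σ : Spec (CommRingCat.of K⸨X⸩) ⟶ X := Spec.map (CommRingCat.ofHom ψL.toRingHom) ≫ hW.fromSpec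
  have hσf : σ ≫ f = Spec.map (CommRingCat.ofHom (algebraMap k K⸨X⸩)) := by
    rw [Category.assoc, hfs, ← Spec.map_comp, ← CommRingCat.ofHom_comp]
    congr 2
    exact RingHom.ext ψL.commutes
  have hDe : ∀ {R : Type u} [Field R] (φ : Γ(X, W) →+* R), φ e ≠ 0 →
      Set.range (Spec.map (CommRingCat.ofHom φ) ≫ hW.fromSpec) ⊆ (U : Set X) := by
    rintro R _ φ hφ _ ⟨y, rfl⟩
    refine heU ?_
    show Spec.map (CommRingCat.ofHom φ) y ∈ hW.fromSpec ⁻¹ᵁ X.basicOpen e
    rw [hW.fromSpec_preimage_basicOpen]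
    show φ e ∉ y.asIdeal
    rw [show y.asIdeal = ⊥ from (Ideal.eq_bot_or_top _).resolve_right y.isPrime.ne_top]
    simpa using hφ
  have hσU : Set.range σ ⊆ Set.range U.ι := by
    rw [Scheme.Opens.range_ι]
    exact hDe ψL.toRingHom fun h => hψe (HahnSeries.ofPowerSeries_injective (h.trans (map_zero _).symm))
  let σ' := IsOpenImmersion.lift U.ι σ hσU
  have hσ' : σ' ≫ U.ι = σ := IsOpenImmersion.lift_fac _ _ _
  obtain ⟨α₀, hα₀⟩ := Spec.map_surjective (σ' ≫ a ≫ V.ι)
  let α : P →ₐ[k] K⸨X⸩ :=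
    { α₀.hom with
      commutes' := by
        intro r
        have h : Spec.map (CommRingCat.ofHom (algebraMap k P) ≫ α₀) =
            Spec.map (CommRingCat.ofHom (algebraMap k K⸨X⸩)) := by
          rw [Spec.map_comp, hα₀, Category.assoc, Category.assoc, ha, reassoc_of% hσ', hσf]
        exact RingHom.congr_fun (congrArg CommRingCat.Hom.hom (Spec.map_injective h)) r }
  -- shrink the target to a basic open mapping into W
  let bX := b ≫ U.ι
  let V' := V.ι ''ᵁ (bX ⁻¹ᵁ W)
  let pL : Spec (CommRingCat.of K⸨X⸩) := IsLocalRing.closedPoint K⸨X⸩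
  have hpV : Spec.map α₀ pL ∈ V' := by
    rw [hα₀]
    refine ⟨(σ' ≫ a) pL, ?_, by simp⟩
    show (b ≫ U.ι) ((σ' ≫ a) pL) ∈ W
    rw [← Scheme.Hom.comp_apply, Category.assoc, reassoc_of% hab, hσ', ← hW.opensRange_fromSpec]
    exact ⟨_, rfl⟩
  obtain ⟨_, ⟨_, ⟨g', rfl⟩, rfl⟩, hgp, hgV⟩ := PrimeSpectrum.isBasis_basic_opens.exists_subset_of_mem_open hpV V'.2
  have hgα : α g' ≠ 0 := fun h => hgp (by
    show α₀.hom g' ∈ pL.asIdeal
    rw [show α₀.hom g' = 0 from h]
    exact zero_mem _)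
  let G := Localization.Away g'
  let jG : Spec (CommRingCat.of G) ⟶ Spec (CommRingCat.of P) := Spec.map (CommRingCat.ofHom (algebraMap P G))
  haveI : IsOpenImmersion jG := IsOpenImmersion.of_isLocalization g'
  have hjV : ∀ y, jG y ∈ V' := fun y => hgV (by
    have : jG y ∈ Set.range (PrimeSpectrum.comap (algebraMap P G)) := ⟨y, rfl⟩
    rw [PrimeSpectrum.localization_away_comap_range G g'] at this
    exact this)
  have hjV₀ : Set.range jG ⊆ Set.range V.ι := by
    rintro _ ⟨y, rfl⟩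
    obtain ⟨w, -, hw⟩ := hjV y
    exact ⟨w, hw⟩
  let τ := IsOpenImmersion.lift V.ι jG hjV₀
  have hτ : τ ≫ V.ι = jG := IsOpenImmersion.lift_fac _ _ _
  obtain ⟨β, hβ⟩ := hfac (τ ≫ bX) (by
      rw [Category.assoc, Category.assoc, hb, reassoc_of% hτ, ← Spec.map_comp, ← CommRingCat.ofHom_comp,
        ← IsScalarTower.algebraMap_eq]) (by
    rintro _ ⟨y, rfl⟩
    obtain ⟨w, hw, hw'⟩ := hjV y
    have : τ y = w := V.ι.isOpenEmbedding.injective (by rw [← Scheme.Hom.comp_apply, hτ]; exact hw'.symm)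
    show bX (τ y) ∈ W
    rw [this]; exact hw)
  let αG : G →+* K⸨X⸩ := IsLocalization.Away.lift g' (g := α.toRingHom) (isUnit_iff_ne_zero.2 hgα)
  have hcomp : αG.comp β.toRingHom = ψL.toRingHom := by
    have h : Spec.map (CommRingCat.ofHom (αG.comp β.toRingHom)) ≫ hW.fromSpec =
        Spec.map (CommRingCat.ofHom ψL.toRingHom) ≫ hW.fromSpec := by
      rw [CommRingCat.ofHom_comp, Spec.map_comp, Category.assoc, hβ, ← Category.assoc]
      have hja : Spec.map (CommRingCat.ofHom αG) ≫ τ = σ' ≫ a := by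
        rw [← cancel_mono V.ι, Category.assoc, hτ, Category.assoc, ← hα₀, ← Spec.map_comp, ← CommRingCat.ofHom_comp]
        congr 1
        exact CommRingCat.hom_ext (IsLocalization.Away.lift_comp g' _)
      rw [hja, Category.assoc, reassoc_of% hab, hσ']
    exact congrArg CommRingCat.Hom.hom (Spec.map_injective ((cancel_mono hW.fromSpec).1 h))
  obtain ⟨D, φ, t, h₀, h₁, hφ₀, hφe⟩ := exists_approx g' β α hgα ψ x hψ (fun b' => RingHom.congr_fun hcomp b') e hψe
  let R := Localization.Away D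
  let ι₁ : Spec (CommRingCat.of R) ⟶ P1K K :=
    Spec.map (CommRingCat.ofHom (algebraMap K[X] R)) ≫ RFormLib.chart K 0
  haveI : IsOpenImmersion (Spec.map (CommRingCat.ofHom (algebraMap K[X] R))) := IsOpenImmersion.of_isLocalization D
  haveI : IsOpenImmersion (RFormLib.chart K 0) := by
    unfold RFormLib.chart RFormLib.chart₀
    haveI h1 : IsIso (CommRingCat.ofHom (RFormLib.chartEquiv K 0).symm.toRingHom) :=
      (RFormLib.chartEquiv K 0).symm.toCommRingCatIso.isIso_hom
    haveI h2 : IsIso (RFormLib.exists_iso K).choose.hom := Iso.isIso_hom _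
    haveI h3 : IsOpenImmersion (Proj.awayι (CohB1.polyGrading 1 K) (MvPolynomial.X (0 : Fin 2))
        (GradedCechLib.X_mem 1 K 0) one_pos) := inferInstance
    exact @IsOpenImmersion.comp _ _ _ _ _ (@IsOpenImmersion.comp _ _ _ _ _ inferInstance h3) inferInstance
  haveI : IsOpenImmersion ι₁ := inferInstance
  let h : Spec (CommRingCat.of R) ⟶ X := Spec.map (CommRingCat.ofHom φ.toRingHom) ≫ hW.fromSpec
  have hh : h ≫ f = ι₁ ≫ P1K.toSpec K ≫ specMap k K := by
    rw [Category.assoc, Category.assoc, hfs, reassoc_of% RFormLib.chart_toSpec, ← Spec.map_comp,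
      ← Spec.map_comp, ← Spec.map_comp]
    congr 1
    refine CommRingCat.hom_ext ((RingHom.ext φ.commutes).trans ?_)
    rw [IsScalarTower.algebraMap_eq k K[X] R]
    rfl
  let ev : ∀ c : K, D.eval c ≠ 0 → (R →+* K) := fun c hc =>
    IsLocalization.Away.lift D (g := Polynomial.evalRingHom c) (isUnit_iff_ne_zero.2 hc)
  have hpt : ∀ c hc, Spec.map (CommRingCat.ofHom (ev c hc)) ≫ ι₁ ≫ P1K.toSpec K = 𝟙 _ := by
    intro c hc
    rw [Category.assoc, RFormLib.chart_toSpec, ← Spec.map_comp, ← Spec.map_comp, ← Spec.map_id]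
    congr 1
    refine CommRingCat.hom_ext (RingHom.ext fun r => ?_)
    show ev c hc (algebraMap K[X] R (Polynomial.C r)) = r
    simp [ev]
  let B : Pts f K := ⟨Spec.map (CommRingCat.ofHom (ev t h₁)) ≫ h, by
    rw [Category.assoc, hh, reassoc_of% hpt t h₁]⟩
  refine ⟨B, ?_, REqLineLib.elemLink_of_openImmersion ι₁ h hh _ _ (hpt 0 h₀) (hpt t h₁) A B ?_ rfl⟩
  · show Set.range (Spec.map _ ≫ Spec.map _ ≫ _) ⊆ _
    rw [← Category.assoc, ← Spec.map_comp, ← CommRingCat.ofHom_comp]
    exact hDe _ hφe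
  · rw [← hx]
    show Spec.map _ ≫ Spec.map _ ≫ _ = _
    rw [← Category.assoc, ← Spec.map_comp, ← CommRingCat.ofHom_comp]
    congr 3
    exact RingHom.ext hφ₀

theorem isRTrivial [CharZero k] [IsIntegral X] [Smooth f] (hX : IsRetractRational f) : IsRTrivial f := by
  obtain ⟨U, n, V, a, b, hne, hab, ha, hb⟩ := hX
  intro K _ _
  haveI := infinite_of_charZero k K
  haveI : Infinite k := Infinite.of_injective (Nat.cast : ℕ → k) Nat.cast_injective
  have hlink : ∀ A B : Pts f K, InOpen f U A → InOpen f U B → ElemLink f K A B := by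
    intro A B hA hB
    have lift : ∀ C : Pts f K, InOpen f U C → ∃ C' : Pts (U.ι ≫ f) K, C'.1 ≫ U.ι = C.1 := fun C hC => by
      have hr : Set.range C.1 ⊆ Set.range U.ι := by rw [Scheme.Opens.range_ι]; exact hC
      refine ⟨⟨IsOpenImmersion.lift U.ι C.1 hr, ?_⟩, IsOpenImmersion.lift_fac _ _ _⟩
      rw [IsOpenImmersion.lift_fac_assoc]; exact C.2
    obtain ⟨A', hA'⟩ := lift A hA
    obtain ⟨B', hB'⟩ := lift B hB
    let A'' : Pts (V.ι ≫ Spec.map (CommRingCat.ofHom (algebraMap k (MvPolynomial (Fin n) k)))) K :=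
      ⟨A'.1 ≫ a, by rw [Category.assoc, ha]; exact A'.2⟩
    let B'' : Pts (V.ι ≫ Spec.map (CommRingCat.ofHom (algebraMap k (MvPolynomial (Fin n) k)))) K :=
      ⟨B'.1 ≫ a, by rw [Category.assoc, ha]; exact B'.2⟩
    refine REqLineLib.elemLink_map (b ≫ U.ι) (by rw [Category.assoc, hb]) A'' B'' A B ?_ ?_
      (REqLineLib.elemLink_affine V A'' B'')
    · show (A'.1 ≫ a) ≫ b ≫ U.ι = A.1
      rw [Category.assoc, reassoc_of% hab, hA']
    · show (B'.1 ≫ a) ≫ b ≫ U.ι = B.1
      rw [Category.assoc, reassoc_of% hab, hB']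
  refine ⟨?_, fun A B => ?_⟩
  · -- a rational point of the open of affine space
    haveI : Nonempty (U : Scheme.{u}) := hne.to_subtype
    let z : V.ι.opensRange := ⟨V.ι (a (Classical.arbitrary _)), _, rfl⟩
    obtain ⟨_, ⟨_, ⟨g, rfl⟩, rfl⟩, hgz, hgV⟩ := PrimeSpectrum.isBasis_basic_opens.exists_subset_of_mem_open z.2 V.ι.opensRange.2
    have hg : g ≠ 0 := fun h => hgz (by rw [h]; exact zero_mem _)
    obtain ⟨p, hp⟩ : ∃ p : Fin n → K, MvPolynomial.aeval p g ≠ (0 : K) := by
      by_contra hc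
      push Not at hc
      refine hg (MvPolynomial.map_injective _ (algebraMap k K).injective ?_)
      rw [map_zero]
      exact MvPolynomial.funext fun w => by
        rw [map_zero, MvPolynomial.eval_map, ← MvPolynomial.aeval_def, hc]
    let s : Spec (CommRingCat.of K) ⟶ Spec (CommRingCat.of (MvPolynomial (Fin n) k)) :=
      Spec.map (CommRingCat.ofHom (MvPolynomial.aeval p).toRingHom)
    have hr : Set.range s ⊆ Set.range V.ι := by
      rintro _ ⟨y, rfl⟩
      have hy : s y ∈ PrimeSpectrum.basicOpen g := fun h => hp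
        ((Ideal.mem_bot).1 ((Ideal.eq_bot_or_top y.asIdeal).resolve_right y.isPrime.ne_top ▸ h))
      obtain ⟨w, hw⟩ := hgV hy
      exact ⟨w, hw⟩
    refine ⟨⟨IsOpenImmersion.lift V.ι s hr ≫ b ≫ U.ι, ?_⟩⟩
    rw [Category.assoc, Category.assoc, hb, IsOpenImmersion.lift_fac_assoc, ← Spec.map_comp]
    congr 1
    exact CommRingCat.hom_ext (RingHom.ext fun r => by simp)
  · obtain ⟨A₁, hA₁, hA⟩ := exists_link_into f K U V a b hne hab ha hb A
    obtain ⟨B₁, hB₁, hB⟩ := exists_link_into f K U V a b hne hab ha hb B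
    exact (Relation.EqvGen.rel _ _ hA).trans _ _ _ ((Relation.EqvGen.rel _ _ (hlink A₁ B₁ hA₁ hB₁)).trans _ _ _
      (Relation.EqvGen.rel _ _ hB).symm)

end RArcLib
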